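import Mathlib
import Cfsg.Prelude.Def_ChevStructure
import Cfsg.Prelude.Def_ChevE8
import Cfsg.Agent.Lib.helper14.INVGT3
import Cfsg.Agent.Lib.helper14.INV.Defs

/-!
# Project INVE8 (S2176), piece CHK: the generic Boolean checks for `chevE8`
-/

set_option autoImplicit false
set_option maxRecDepth 100000

namespace Cfsg.Agent.Lib.Helper12.INVE8

open Cfsg.Lie Cfsg.Lie.ChevalleyDatum Cfsg.Agent.Lib.helper8 Cfsg.Agent.Lib.helper14
  Cfsg.Agent.Lib.helper14.INV

theorem e8chk_gt : gtChk chevE8 = true := by decide +kernel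

theorem e8chk_sym : gtSymChk chevE8 = true := by decide +kernel

theorem e8chk_ls : lsChk chevE8 = true := by decide +kernel

/-- CHK : the generic checks for `chevE8` -/
theorem e8_chk : gtChk chevE8 = true ∧ gtSymChk chevE8 = true ∧ lsChk chevE8 = true :=
  ⟨e8chk_gt, e8chk_sym, e8chk_ls⟩

end Cfsg.Agent.Lib.Helper12.INVE8
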