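import Mathlib
import Cfsg.Prelude.Def_ChevStructure
import Cfsg.Agent.Lib.Helper12.INVE8.Defs

/-!
# Project INVE8 (S2176), piece FS: the packed data agree with `chevE8`
-/

set_option autoImplicit false
set_option maxRecDepth 100000

namespace Cfsg.Agent.Lib.Helper12.INVE8

open Cfsg.Lie Cfsg.Lie.ChevalleyDatum Cfsg.Agent.Lib.helper8 Cfsg.Agent.Lib.helper14
  Cfsg.Agent.Lib.helper14.INV

/-- FS : the packed data agree with `chevE8` -/
theorem e8Fs_chk : fsChk chevE8 e8Fs = true := by decide +kernel

end Cfsg.Agent.Lib.Helper12.INVE8
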