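import Mathlib
import Cfsg.Prelude.Def_ChevStructure
import Cfsg.Agent.Lib.Helper12.INVE8.Defs

/-!
# Project INVE8 (S2176), piece TAB, part 0: the Boolean check of one entry of the table
-/

set_option autoImplicit false

namespace Cfsg.Agent.Lib.Helper12.INVE8

open Cfsg.Lie Cfsg.Lie.ChevalleyDatum Cfsg.Agent.Lib.helper8 Cfsg.Agent.Lib.helper14
  Cfsg.Agent.Lib.helper14.INV

/-- the check of the columns `(k, v)` of an entry `(J, c, k, v)`: `k = 10`: `c` moves a fundamental root
of `J`; `k = 9`: `c` is the identity; `k < 9`: `v c v⁻¹` is the standard involution of the class `k` -/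
def e8ClsOK (x : List ℕ × List ℕ × ℕ × List ℕ) : Bool :=
  if x.2.2.1 = 10 then
    x.1.any fun j => fsW e8Fs.T x.2.1 (chevE8.simple j) != chevE8.simple j
  else if x.2.2.1 = 9 then
    (List.range 240).all fun r => fsW e8Fs.T x.2.1 r == r
  else
    decide (x.2.2.1 < 9) && x.2.2.2.all (fun i => decide (i < 8)) &&
      (List.range 240).all fun r =>
        fsW e8Fs.T (x.2.2.2 ++ x.2.1 ++ x.2.2.2.reverse) r ==
          fsW e8Fs.T (stdWord (e8StdR.getD x.2.2.1 [])) r

/-- the check of a block of the table -/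
def e8BlkOK (T : List (List ℕ × List ℕ × ℕ × List ℕ)) : Bool :=
  T.all fun x => gtInvChkF chevE8 e8Fs x.1 x.2.1 && e8ClsOK x

end Cfsg.Agent.Lib.Helper12.INVE8
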