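import Mathlib
import Cfsg.Prelude.Def_ChevStructure
import Cfsg.Agent.Lib.Helper12.INVE8.TAB0

/-!
# Project INVE8 (S2176), piece TAB: the blocks 2 and 3 of the table
-/

set_option autoImplicit false
set_option maxRecDepth 100000

namespace Cfsg.Agent.Lib.Helper12.INVE8

open Cfsg.Lie Cfsg.Lie.ChevalleyDatum Cfsg.Agent.Lib.helper8 Cfsg.Agent.Lib.helper14
  Cfsg.Agent.Lib.helper14.INV

theorem e8tab_blk2 : e8BlkOK e8GT4_2 = true := by decide +kernel

theorem e8tab_blk3 : e8BlkOK e8GT4_3 = true := by decide +kernel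

end Cfsg.Agent.Lib.Helper12.INVE8
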