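import Mathlib
import Cfsg.Prelude.Def_ChevStructure
import Cfsg.Agent.Lib.Helper12.INVE8.TABa
import Cfsg.Agent.Lib.Helper12.INVE8.TABb
import Cfsg.Agent.Lib.Helper12.INVE8.TABc
import Cfsg.Agent.Lib.Helper12.INVE8.TABd
import Cfsg.Agent.Lib.Helper12.INVE8.FS
import Cfsg.Agent.Lib.Helper12.INVE8.CHK
import Cfsg.Agent.Lib.helper14.INVGT4
import Cfsg.Agent.Lib.helper8.ChevBNAll
import Cfsg.Agent.Lib.helper8.ChevBNAll2
import Cfsg.Agent.Lib.helper8.ChevCommAll

/-!
# Project INVE8 (S2176), piece TAB: the Weyl group elements of the maximal cells of `E₈`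
-/

set_option autoImplicit false
set_option maxRecDepth 100000

namespace Cfsg.Agent.Lib.Helper12.INVE8

open Cfsg.Lie Cfsg.Lie.ChevalleyDatum Cfsg.Agent.Lib.helper8 Cfsg.Agent.Lib.helper14
  Cfsg.Agent.Lib.helper14.INV

theorem e8tab_mem_list : chevE8 ∈ [chevG2, chevB2, chevD4, chevF4, chevE6, chevE7, chevE8] := by
  simp

/-- all blocks pass -/
theorem e8tab_blocks : ∀ T ∈ e8GT4s, e8BlkOK T = true := by
  intro T hT
  simp only [e8GT4s, List.mem_cons, List.not_mem_nil, or_false] at hT
  rcases hT with rfl | rfl | rfl | rfl | rfl | rfl | rfl | rfl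
  · exact e8tab_blk0
  · exact e8tab_blk1
  · exact e8tab_blk2
  · exact e8tab_blk3
  · exact e8tab_blk4
  · exact e8tab_blk5
  · exact e8tab_blk6
  · exact e8tab_blk7

/-- every entry passes -/
theorem e8tab_entry (x : List ℕ × List ℕ × ℕ × List ℕ) (hx : x ∈ e8GT4) :
    gtInvChkF chevE8 e8Fs x.1 x.2.1 = true ∧ e8ClsOK x = true := by
  unfold e8GT4 at hx
  rw [List.mem_flatten] at hx
  obtain ⟨T, hT, hxT⟩ := hx
  have h := e8tab_blocks T hT
  unfold e8BlkOK at h
  rw [List.all_eq_true] at h
  have := h x hxT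
  rwa [Bool.and_eq_true] at this

/-- every subset of the fundamental roots has an entry -/
theorem e8tab_cover : ((List.range chevE8.rank).sublists.all fun J =>
    e8GT.any fun e => e.1 == J) = true := by decide +kernel

/-- the table passes the check of `gt_table` -/
theorem e8GT_chk : gtTabChk chevE8 e8GT = true := by
  have hA := h8reflAll chevE8 e8tab_mem_list
  unfold gtTabChk
  rw [Bool.and_eq_true]
  refine ⟨e8tab_cover, ?_⟩
  rw [List.all_eq_true]
  intro e he
  unfold e8GT at he
  rw [List.mem_map] at he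
  obtain ⟨x, hx, rfl⟩ := he
  exact gtInvChkF_sound chevE8 hA e8Fs e8Fs_chk x.1 x.2.1 (e8tab_entry x hx).1

/-- the words of `e8StdR` are valid -/
theorem e8tab_stdR_valid : (e8StdR.all fun R => R.all fun e =>
    e.1.all (fun i => decide (i < 8)) && decide (e.2 < 8)) = true := by decide +kernel

theorem e8tab_stdWord_valid (k : ℕ) : ValidW chevE8 (stdWord (e8StdR.getD k [])) := by
  apply stdWord_valid
  intro e he
  have h := e8tab_stdR_valid
  rw [List.all_eq_true] at h
  by_cases hk : k < e8StdR.length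
  · have h1 := h (e8StdR.getD k []) (by
      rw [List.getD_eq_getElem _ _ hk]; exact List.getElem_mem hk)
    rw [List.all_eq_true] at h1
    have h2 := h1 e he
    rw [Bool.and_eq_true, List.all_eq_true, decide_eq_true_eq] at h2
    refine ⟨fun i hi => ?_, h2.2⟩
    have := h2.1 i hi
    rw [decide_eq_true_eq] at this
    exact this
  · rw [List.getD_eq_default _ _ (by omega)] at he
    exact absurd he List.not_mem_nil

/-- TAB : a word with `JProp` is the identity on the roots or conjugate (by an explicit word `v`) to the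
standard involution of one of the nine classes -/
theorem e8_tab (w : List ℕ) (hw : ValidW chevE8 w) (hJ : JProp chevE8 w) :
    (∀ r < 240, h8sW chevE8 w r = r) ∨
    ∃ k < 9, ∃ v : List ℕ, ValidW chevE8 v ∧ ∀ r < 240,
      h8sW chevE8 (v ++ w ++ v.reverse) r = h8sW chevE8 (stdWord (e8StdR.getD k [])) r := by
  have hD := e8tab_mem_list
  have hB0 := h8base_all.{0} chevE8 hD
  have hA := h8reflAll chevE8 hD
  have hBN := h8bn_all chevE8 hD
  have hW := h8bn2_all chevE8 hD
  obtain ⟨hO, hO2⟩ := h8ord_all chevE8 hD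
  have hn : chevE8.nroots = 240 := rfl
  obtain ⟨e, he, hgood, hmem, hv, heq⟩ :=
    gt_table_good chevE8 hB0 hA hBN hW hO2 e8chk_gt e8GT e8GT_chk w hw hJ
  unfold e8GT at he
  rw [List.mem_map] at he
  obtain ⟨x, hx, rfl⟩ := he
  have hcls := (e8tab_entry x hx).2
  have hfs : ∀ (u : List ℕ), ValidW chevE8 u → ∀ r < 240, h8sW chevE8 u r = fsW e8Fs.T u r :=
    fun u hu r hr => fsW_eq chevE8 hA e8Fs e8Fs_chk u hu r (by rw [hn]; exact hr)
  unfold e8ClsOK at hcls
  split_ifs at hcls with h10 h9
  · -- a bad entry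
    exfalso
    rw [List.any_eq_true] at hcls
    obtain ⟨j, hj, hne⟩ := hcls
    have hjJ := (hmem j).mp hj
    have hjlt : chevE8.simple j < 240 := by
      have := gtChk_simple_lt chevE8 e8chk_gt j hjJ.1
      rwa [hn] at this
    have h1 : h8sW chevE8 x.2.1 (chevE8.simple j) = chevE8.simple j := by
      rw [← heq _ (by rw [hn]; exact hjlt)]
      exact hjJ.2
    rw [hfs x.2.1 hv _ hjlt] at h1
    simp only [bne_iff_ne, ne_eq] at hne
    exact hne h1
  · -- the identity
    left
    intro r hr
    rw [List.all_eq_true] at hcls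
    have := hcls r (List.mem_range.mpr hr)
    rw [beq_iff_eq] at this
    rw [heq r (by rw [hn]; exact hr), hfs x.2.1 hv r hr]
    exact this
  · -- a class
    right
    rw [Bool.and_eq_true, Bool.and_eq_true, decide_eq_true_eq, List.all_eq_true,
      List.all_eq_true] at hcls
    obtain ⟨⟨hk, hvv⟩, hall⟩ := hcls
    have hvV : ValidW chevE8 x.2.2.2 := by
      intro i hi
      have := hvv i hi
      rw [decide_eq_true_eq] at this
      exact this
    have hvr : ValidW chevE8 x.2.2.2.reverse := fun i hi => hvV i (List.mem_reverse.mp hi)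
    refine ⟨x.2.2.1, hk, x.2.2.2, hvV, ?_⟩
    intro r hr
    have hr' : r < chevE8.nroots := by rw [hn]; exact hr
    have h1 := hall r (List.mem_range.mpr hr)
    rw [beq_iff_eq] at h1
    have hfull : ValidW chevE8 (x.2.2.2 ++ x.2.1 ++ x.2.2.2.reverse) := by
      intro i hi
      rw [List.mem_append, List.mem_append] at hi
      rcases hi with (hi | hi) | hi
      · exact hvV i hi
      · exact hv i hi
      · exact hvr i hi
    rw [← hfs _ hfull r hr, ← hfs _ (e8tab_stdWord_valid x.2.2.1) r hr] at h1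
    rw [← h1, h8sW_append, h8sW_append, h8sW_append, h8sW_append,
      heq _ (h8sW_lt chevE8 hA _ hvr r hr')]

end Cfsg.Agent.Lib.Helper12.INVE8
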