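import Mathlib
import Cfsg.Prelude.Def_ChevStructure
import Cfsg.Agent.Lib.Helper12.INVE8.Defs
import Cfsg.Agent.Lib.Helper12.INVE8.CHK
import Cfsg.Agent.Lib.Helper12.INVE8.TAB
import Cfsg.Agent.Lib.Helper24.INVE8STDA
import Cfsg.Agent.Lib.Helper16.INVE8STDN
import Cfsg.Agent.Lib.helper23.INVE8STDC
import Cfsg.Agent.Lib.Helper22.INVE8FUSE
import Cfsg.Agent.Lib.helper14.INV.Gen
import Cfsg.Agent.Lib.helper8.ChevIE7b
import Cfsg.Agent.Lib.helper23.INVSAMEPERM
import Cfsg.Agent.Lib.Helper10.INVLEMN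
import Cfsg.Agent.Lib.helper14.INVHodd
import Cfsg.Agent.Lib.helper14.INVGT
import Cfsg.Agent.Lib.helper8.ChevBNAll
import Cfsg.Agent.Lib.helper8.ChevBNAll2
import Cfsg.Agent.Lib.helper8.ChevCommAll

/-!
# Project INVE8 (S2176): the assembly — every involution of `E₈(F)`, `char F = 2`, is conjugate to one of
the four representatives
-/

set_option autoImplicit false

namespace Cfsg.Agent.Lib.Helper12.INVE8

open Cfsg.Lie Cfsg.Lie.ChevalleyDatum Cfsg.Agent.Lib.helper8 Cfsg.Agent.Lib.helper14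
  Cfsg.Agent.Lib.helper14.INV

universe u

variable {F : Type u} [Field F]

theorem e8_mem_list : chevE8 ∈ [chevG2, chevB2, chevD4, chevF4, chevE6, chevE7, chevE8] := by simp

theorem e8cj_refl (a : GL chevE8.Idx F) : Cj chevE8 a a :=
  ⟨1, Subgroup.one_mem _, by group⟩

theorem e8cj_trans {a b c : GL chevE8.Idx F} (h1 : Cj chevE8 a b) (h2 : Cj chevE8 b c) :
    Cj chevE8 a c := by
  obtain ⟨g, hg, e1⟩ := h1
  obtain ⟨g', hg', e2⟩ := h2
  refine ⟨g' * g, Subgroup.mul_mem _ hg' hg, ?_⟩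
  rw [← e2, ← e1]; group

theorem e8_rep_mem : ∀ k < 9, e8Rep.getD k [] ∈ e8Reps := by decide

theorem e8_nroots : chevE8.nroots = 240 := rfl

/-- every involution of `E₈(F)`, `char F = 2`, is conjugate to one of the four representatives -/
theorem e8_invol_class [Fintype F] [CharP F 2] (t : GL chevE8.Idx F) (ht : t ∈ chevE8.group F)
    (ho : orderOf t = 2) :
    ∃ a ∈ e8Reps, Cj chevE8 t
      (w1 chevE8 (h8base_all.{u} chevE8 e8_mem_list) a : GL chevE8.Idx F) := by
  have hD := e8_mem_list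
  set hB := h8base_all.{u} chevE8 hD with hBdef
  have hB0 := h8base_all.{0} chevE8 hD
  have hA := h8reflAll chevE8 hD
  have hC := h8commAll.{u} chevE8 hD
  have hBN := h8bn_all chevE8 hD
  have hW := h8bn2_all chevE8 hD
  obtain ⟨hO, hO2⟩ := h8ord_all chevE8 hD
  obtain ⟨hgt, -, hls⟩ := e8_chk
  have hsq : t * t = 1 := by
    have := pow_orderOf_eq_one t
    rw [ho, pow_two] at this
    exact this
  have hne : t ≠ 1 := by
    intro h
    rw [h, orderOf_one] at ho
    omega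
  obtain ⟨g, hg, w, hw, hJ, h0, hh, e⟩ := invol_conj_N chevE8 hB hB0 hA hC hBN hW hO hO2 hls
    (fun w hw hJ r hr hr' => gt_struct chevE8 hB0 hA hgt w hw hJ r hr hr') t ht hsq
  have hn'N : h0 * (h8nWU chevE8 hB w : GL chevE8.Idx F) ∈ chevE8.monomialSubgroup F :=
    Subgroup.mul_mem _ (h8H_le_N chevE8 hh) (h8nWU_mem_N chevE8 hB hA w hw)
  have hn'sq : (h0 * (h8nWU chevE8 hB w : GL chevE8.Idx F)) *
      (h0 * (h8nWU chevE8 hB w : GL chevE8.Idx F)) = 1 := by
    rw [← e]
    exact conjN_sq g t hsq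
  have hodd : Odd (Nat.card (chevE8.diagonalSubgroup F)) := H_card_odd chevE8 hD
  rcases e8_tab w hw hJ with hid | ⟨k, hk, v, hv, hσ⟩
  · -- the identity: `t = 1`
    exfalso
    have hn'act : ∀ r < chevE8.nroots, H8Act chevE8 hB
        (h0 * (h8nWU chevE8 hB w : GL chevE8.Idx F)) r r := by
      intro r hr
      have h1 := h8nWU_act (F := F) chevE8 hB hA w hw r hr
      rw [hid r hr] at h1
      exact h8act_mul chevE8 hB h0 _ _ _ _ h1 (h8perm_H_id chevE8 hB h0 hh r hr)
    have h1act : ∀ r < chevE8.nroots, H8Act chevE8 hB (1 : GL chevE8.Idx F) r r := by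
      intro r _
      refine ⟨1, one_ne_zero, fun t => ?_⟩
      rw [one_mul, inv_one, mul_one, one_mul]
    have hH := N_same_perm chevE8 hB hA hBN hW hO2 (1 : GL chevE8.Idx F)
      (h0 * (h8nWU chevE8 hB w : GL chevE8.Idx F)) (Subgroup.one_mem _) hn'N (fun r => r) h1act
      hn'act
    rw [inv_one, one_mul] at hH
    have hord : orderOf (⟨_, hH⟩ : chevE8.diagonalSubgroup F) ∣
        Nat.card (chevE8.diagonalSubgroup F) := orderOf_dvd_natCard _
    have h2 : (⟨_, hH⟩ : chevE8.diagonalSubgroup F) ^ 2 = 1 := by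
      apply Subtype.ext
      rw [Subgroup.coe_pow, pow_two]
      exact hn'sq
    have hd2 : orderOf (⟨_, hH⟩ : chevE8.diagonalSubgroup F) ∣ 2 := orderOf_dvd_of_pow_eq_one h2
    have hone : orderOf (⟨_, hH⟩ : chevE8.diagonalSubgroup F) = 1 := by
      have hodd' : Odd (orderOf (⟨_, hH⟩ : chevE8.diagonalSubgroup F)) := by
        obtain ⟨c, hc⟩ := hord
        rw [hc] at hodd
        exact (Nat.odd_mul.mp hodd).1
      rcases (Nat.dvd_prime Nat.prime_two).mp hd2 with h | h
      · exact h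
      · rw [h] at hodd'; exact absurd hodd' (by decide)
    rw [orderOf_eq_one_iff] at hone
    have hn1 : h0 * (h8nWU chevE8 hB w : GL chevE8.Idx F) = 1 := congrArg Subtype.val hone
    apply hne
    have : t = g⁻¹ * (g * t * g⁻¹) * g := by group
    rw [this, e, hn1]; group
  · -- conjugate by `n_v` to the standard involution of the class `k`
    obtain ⟨hcN, hcact⟩ := conjN_act (F := F) chevE8 hB hA v w hv hw h0 hh
    have hcsq := conjN_sq (h8nWU chevE8 hB v : GL chevE8.Idx F) _ hn'sq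
    obtain ⟨hzN, hzsq⟩ := e8_std_N (F := F) hB k hk
    have hzact := fun r hr => e8_std_act (F := F) hB k hk r hr
    have hzcj := e8_std_cj (F := F) hB k hk
    have hH := N_same_perm chevE8 hB hA hBN hW hO2 _ _ hcN hzN
      (fun r => h8sW chevE8 (stdWord (e8StdR.getD k [])) r)
      (fun r hr => by have := hcact r hr; rwa [hσ r hr] at this) hzact
    obtain ⟨h, hhH, eh⟩ := N_invol_conj chevE8 hB hA hBN hodd _ _ hcN hzN hcsq hzsq hH
    have hhG : h ∈ chevE8.group F := h8_B_le_group chevE8 hB (h8H_le_B chevE8 hhH)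
    have hvG : (h8nWU chevE8 hB v : GL chevE8.Idx F) ∈ chevE8.group F :=
      h8_N_le_group chevE8 hB (h8nWU_mem_N chevE8 hB hA v hv)
    have hc1 : Cj chevE8 t (n1 chevE8 hB (e8Std.getD k []) : GL chevE8.Idx F) := by
      refine ⟨h * (h8nWU chevE8 hB v : GL chevE8.Idx F) * g,
        Subgroup.mul_mem _ (Subgroup.mul_mem _ hhG hvG) hg, ?_⟩
      rw [← eh, ← e]; group
    exact ⟨e8Rep.getD k [], e8_rep_mem k hk,
      e8cj_trans hc1 (e8cj_trans hzcj (e8_fuse hB k hk))⟩

end Cfsg.Agent.Lib.Helper12.INVE8
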