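import Mathlib
import Cfsg.Prelude.Def_ChevStructure
import Cfsg.Agent.Lib.Helper12.INVE8.Defs
import Cfsg.Agent.Lib.helper14.INVNCb

/-!
# Project INVE8 (S2176), piece NCFORM (backup copy): the side conditions of `nc_form_prod`, part 0
-/

set_option autoImplicit false
set_option maxRecDepth 100000

namespace Cfsg.Agent.Lib.Helper12.INVE8

open Cfsg.Lie Cfsg.Lie.ChevalleyDatum Cfsg.Agent.Lib.helper8 Cfsg.Agent.Lib.helper14
  Cfsg.Agent.Lib.helper14.INV

/-- the side conditions of `nc_form_prod` for one root `r` of a representative -/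
def e8ncfbChk (r : ℕ) : Bool :=
  decide (chevE8.IsPosRoot r) &&
  (e8Up r).all (fun s => decide (chevE8.IsPosRoot s) && decide (r < s)) &&
  f4cCommChk chevE8 (r :: e8Up r) 2 && f4cStabChk chevE8 (r :: e8Up r) 2

end Cfsg.Agent.Lib.Helper12.INVE8
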