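import Mathlib
import Cfsg.Prelude.Def_ChevStructure
import Cfsg.Agent.Lib.Helper12.INVE8.Defs
import Cfsg.Agent.Lib.helper14.INVNCb
import Cfsg.Agent.Lib.Helper12.INVE8.NCFORMb0

/-!
# Project INVE8 (S2176), piece NCFORM (backup copy): the side conditions of `nc_form_prod`, part 2
-/

set_option autoImplicit false
set_option maxRecDepth 100000

namespace Cfsg.Agent.Lib.Helper12.INVE8

open Cfsg.Lie Cfsg.Lie.ChevalleyDatum Cfsg.Agent.Lib.helper8 Cfsg.Agent.Lib.helper14
  Cfsg.Agent.Lib.helper14.INV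

theorem e8ncfb_chk_222 : e8ncfbChk 222 = true := by decide +kernel

theorem e8ncfb_chk_218 : e8ncfbChk 218 = true := by decide +kernel

theorem e8ncfb_chk_226 : e8ncfbChk 226 = true := by decide +kernel

end Cfsg.Agent.Lib.Helper12.INVE8
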