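import Mathlib
import Cfsg.Prelude.Def_ChevStructure
import Cfsg.Agent.Lib.Helper12.INVE8.Defs
import Cfsg.Agent.Lib.helper14.INVNCb
import Cfsg.Agent.Lib.Helper12.INVE8.NCFORMb1
import Cfsg.Agent.Lib.Helper12.INVE8.NCFORMb2
import Cfsg.Agent.Lib.Helper12.INVE8.NCFORMb3
import Cfsg.Agent.Lib.helper14.ChevFiltAll
import Cfsg.Agent.Lib.helper8.ChevBNAll
import Cfsg.Agent.Lib.helper8.ChevBNAll2
import Cfsg.Agent.Lib.helper8.ChevCommAll

/-!
# Project INVE8 (S2176), piece NCFORM (backup copy under other names): the `B`-conjugates of the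
representatives
-/

set_option autoImplicit false
set_option maxRecDepth 100000

namespace Cfsg.Agent.Lib.Helper12.INVE8

open Cfsg.Lie Cfsg.Lie.ChevalleyDatum Cfsg.Agent.Lib.helper8 Cfsg.Agent.Lib.helper14
  Cfsg.Agent.Lib.helper14.INV

universe u

variable {F : Type u} [Field F]

theorem e8ncfb_mem : chevE8 ∈ [chevG2, chevB2, chevD4, chevF4, chevE6, chevE7, chevE8] := by simp

theorem e8ncfb_chk : ∀ k < 4, ∀ r ∈ e8Reps.getD k [], e8ncfbChk r = true := by
  intro k hk r hr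
  have h : ∀ k < 4, ∀ r ∈ e8Reps.getD k [], r ∈ [239, 232, 233, 228, 222, 218, 226, 220, 213, 216] := by decide
  have h2 := h k hk r hr
  simp only [List.mem_cons, List.not_mem_nil, or_false] at h2
  rcases h2 with rfl | rfl | rfl | rfl | rfl | rfl | rfl | rfl | rfl | rfl
  · exact e8ncfb_chk_239
  · exact e8ncfb_chk_232
  · exact e8ncfb_chk_233
  · exact e8ncfb_chk_228
  · exact e8ncfb_chk_222
  · exact e8ncfb_chk_218
  · exact e8ncfb_chk_226
  · exact e8ncfb_chk_220
  · exact e8ncfb_chk_213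
  · exact e8ncfb_chk_216

theorem e8ncfb_comm_0 : f4cCommChk chevE8 (e8L.getD 0 []) 2 = true := by decide +kernel

theorem e8ncfb_comm_1 : f4cCommChk chevE8 (e8L.getD 1 []) 2 = true := by decide +kernel

theorem e8ncfb_comm_2 : f4cCommChk chevE8 (e8L.getD 2 []) 2 = true := by decide +kernel

theorem e8ncfb_comm_3 : f4cCommChk chevE8 (e8L.getD 3 []) 2 = true := by decide +kernel

theorem e8ncfb_comm : ∀ k < 4, f4cCommChk chevE8 (e8L.getD k []) 2 = true := by
  intro k hk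
  interval_cases k
  · exact e8ncfb_comm_0
  · exact e8ncfb_comm_1
  · exact e8ncfb_comm_2
  · exact e8ncfb_comm_3

/-- the cheap list conditions -/
theorem e8ncfb_lists : ∀ k < 4, (e8L.getD k []).Nodup ∧ (e8Reps.getD k []).Nodup ∧
    ∀ r ∈ e8Reps.getD k [], (r :: e8Up r).Sublist (e8L.getD k []) ∧
      ∀ r' ∈ e8Reps.getD k [], r' ≠ r → r' ∉ e8Up r := by decide +kernel

/-- NCFORM (backup) : the `B`-conjugates of the `k`-th representative are words on `e8L[k]` with
non-vanishing coefficients at the roots of the representative -/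
theorem e8_nc_form_b [CharP F 2] (hB : H8Base.{u} chevE8) (k : ℕ) (hk : k < 4)
    (b : GL chevE8.Idx F) (hb : b ∈ chevE8.borelSubgroup F) :
    ∃ c : ℕ → F, (∀ r ∈ e8Reps.getD k [], c r ≠ 0) ∧
      b * w1 chevE8 hB (e8Reps.getD k []) * b⁻¹ = f4cLW chevE8 hB (e8L.getD k []) c := by
  have hD := e8ncfb_mem
  have hC := h8commAll.{u} chevE8 hD
  obtain ⟨hO, hO2⟩ := h8ord_all chevE8 hD
  have hM := cfMax_all chevE8 hD
  have hm : (((2 : ℕ) : ℤ) : F) = 0 := by
    have : ((2 : ℕ) : F) = 0 := CharP.cast_eq_zero F 2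
    exact_mod_cast this
  obtain ⟨hLnd, hRnd, hl⟩ := e8ncfb_lists k hk
  apply nc_form_prod chevE8 hB hC hO hO2 hM 2 hm (e8L.getD k []) hLnd (e8ncfb_comm k hk) e8Up
    (e8Reps.getD k []) hRnd _ b hb
  intro r hr
  have hc := e8ncfb_chk k hk r hr
  unfold e8ncfbChk at hc
  rw [Bool.and_eq_true, Bool.and_eq_true, Bool.and_eq_true, decide_eq_true_eq,
    List.all_eq_true] at hc
  obtain ⟨⟨⟨h1, h2⟩, h3⟩, h4⟩ := hc
  refine ⟨h1, ?_, (hl r hr).1, h3, h4, (hl r hr).2⟩
  intro s hs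
  have := h2 s hs
  rw [Bool.and_eq_true, decide_eq_true_eq, decide_eq_true_eq] at this
  exact this

end Cfsg.Agent.Lib.Helper12.INVE8
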