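import Mathlib
import Cfsg.Prelude.Def_ChevStructure
import Cfsg.Agent.Lib.Helper12.INVE8.Defs
import Cfsg.Agent.Lib.Helper12.INVE8.FS
import Cfsg.Agent.Lib.Helper12.INVNCWSF
import Cfsg.Agent.Lib.helper8.ChevReflAll
import Cfsg.Agent.Lib.helper8.ChevOrd

/-!
# Project INVE8 (S2176), piece NCWS (backup copy under other names): the witness words cut out `e8L[k]`
-/

set_option autoImplicit false
set_option maxRecDepth 100000

namespace Cfsg.Agent.Lib.Helper12.INVE8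

open Cfsg.Lie Cfsg.Lie.ChevalleyDatum Cfsg.Agent.Lib.helper8 Cfsg.Agent.Lib.helper14
  Cfsg.Agent.Lib.helper14.INV

theorem e8ncwsb_mem : chevE8 ∈ [chevG2, chevB2, chevD4, chevF4, chevE6, chevE7, chevE8] := by simp

theorem e8ncwsb_chk : ∀ k < 4, ncWsChkF chevE8 e8Fs (e8Ws.getD k []) (e8L.getD k []) = true := by
  decide +kernel

/-- NCFIL (backup) : the lists `e8L[k]` are increasing lists of positive roots -/
theorem e8_nc_fil_b (k : ℕ) (hk : k < 4) :
    (h8Lk chevE8 0).filter (fun r => decide (r ∈ e8L.getD k [])) = e8L.getD k [] := by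
  have h : ∀ k < 4, (h8Lk chevE8 0).filter (fun r => decide (r ∈ e8L.getD k [])) =
      e8L.getD k [] := by decide +kernel
  exact h k hk

/-- NCWS (backup) : the witness words cut out `e8L[k]` -/
theorem e8_nc_ws_b (k : ℕ) (hk : k < 4) :
    (∀ v ∈ e8Ws.getD k [], ∀ i ∈ v, i < chevE8.rank) ∧
    (∀ v ∈ e8Ws.getD k [], ∀ r ∈ e8L.getD k [], chevE8.IsPosRoot (h8sW chevE8 v r)) ∧
    (∀ s < chevE8.nroots, (∀ v ∈ e8Ws.getD k [], chevE8.IsPosRoot (h8sW chevE8 v s)) →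
      s ∈ e8L.getD k []) :=
  ncWsChkF_sound chevE8 (h8reflAll chevE8 e8ncwsb_mem) e8Fs e8Fs_chk _ _ (e8ncwsb_chk k hk)

end Cfsg.Agent.Lib.Helper12.INVE8
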