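import Mathlib
import Cfsg.Prelude.Def_ChevStructure
import Cfsg.Agent.Lib.Helper12.INVE8.Defs
import Cfsg.Agent.Lib.Helper16.INVE8NCORTH
import Cfsg.Agent.Lib.Helper12.INVE8.NCWSb
import Cfsg.Agent.Lib.Helper12.INVE8.NCFORMb
import Cfsg.Agent.Lib.helper14.INVNCa
import Cfsg.Agent.Lib.helper8.ChevBNAll
import Cfsg.Agent.Lib.helper8.ChevBNAll2
import Cfsg.Agent.Lib.helper8.ChevCommAll

/-!
# Project INVE8 (S2176), piece NONCONJ: the four representatives are pairwise non-conjugate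
-/

set_option autoImplicit false

namespace Cfsg.Agent.Lib.Helper12.INVE8

open Cfsg.Lie Cfsg.Lie.ChevalleyDatum Cfsg.Agent.Lib.helper8 Cfsg.Agent.Lib.helper14
  Cfsg.Agent.Lib.helper14.INV

universe u

variable {F : Type u} [Field F]

theorem e8nc_mem_list : chevE8 ∈ [chevG2, chevB2, chevD4, chevF4, chevE6, chevE7, chevE8] := by
  simp

/-- the roots of the representatives are positive roots of the lists `e8L` -/
theorem e8nc_L0 : ∀ k < 4, ∀ r ∈ e8Reps.getD k [], r ∈ e8L.getD k [] ∧ chevE8.IsPosRoot r := by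
  decide +kernel

/-- the `k`-th representative is not conjugate to the `l`-th one, `k < l` -/
theorem e8nc_pair [CharP F 2] (hB : H8Base.{u} chevE8) (k l : ℕ) (hkl : k < l) (hl : l < 4)
    (g : GL chevE8.Idx F) (hg : g ∈ chevE8.group F)
    (h : g * (w1 chevE8 hB (e8Reps.getD k []) : GL chevE8.Idx F) * g⁻¹ =
      w1 chevE8 hB (e8Reps.getD l [])) : False := by
  have hD := e8nc_mem_list
  have hA := h8reflAll chevE8 hD
  have hC := h8commAll.{u} chevE8 hD
  have hBN := h8bn_all chevE8 hD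
  have hW := h8bn2_all chevE8 hD
  obtain ⟨hO, hO2⟩ := h8ord_all chevE8 hD
  have hk : k < 4 := by omega
  obtain ⟨a1, a2, a3⟩ := e8_nc_ws_b k hk
  obtain ⟨b1, b2, b3⟩ := e8_nc_ws_b l hl
  obtain ⟨w, w₂, hw, hw₂, h1, h2, h3, h4⟩ := nc_core chevE8 hB hA hC hBN hW hO hO2
    (e8L.getD k []) (e8Reps.getD k []) (e8L.getD l []) (e8Reps.getD l [])
    (e8_nc_fil_b k hk) (e8_nc_fil_b l hl) (e8Ws.getD k []) (e8Ws.getD l []) a1 b1 a2 a3 b2 b3
    _ _ (e8_nc_form_b hB k hk) (e8_nc_form_b hB l hl) (e8nc_L0 k hk) (e8nc_L0 l hl) g hg h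
  exact e8_nc_orth k l hkl hl w₂ hw₂ h2

/-- NONCONJ : the four representatives are pairwise non-conjugate -/
theorem e8_not_conj [CharP F 2] (hB : H8Base.{u} chevE8) (a b : List ℕ) (ha : a ∈ e8Reps)
    (hb : b ∈ e8Reps) (h : Cj chevE8 (w1 chevE8 hB a : GL chevE8.Idx F) (w1 chevE8 hB b)) : a = b := by
  obtain ⟨i, hi, rfl⟩ := List.getElem_of_mem ha
  obtain ⟨j, hj, rfl⟩ := List.getElem_of_mem hb
  have hi4 : i < 4 := hi
  have hj4 : j < 4 := hj
  obtain ⟨g, hg, e⟩ := h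
  rw [← List.getD_eq_getElem _ [] hi, ← List.getD_eq_getElem _ [] hj] at e ⊢
  rcases lt_trichotomy i j with hij | hij | hij
  · exact (e8nc_pair hB i j hij hj4 g hg e).elim
  · rw [hij]
  · have e' : g⁻¹ * (w1 chevE8 hB (e8Reps.getD j []) : GL chevE8.Idx F) * g⁻¹⁻¹ =
        w1 chevE8 hB (e8Reps.getD i []) := by
      rw [← e]; group
    exact (e8nc_pair hB j i hij hi4 g⁻¹ (Subgroup.inv_mem _ hg) e').elim

end Cfsg.Agent.Lib.Helper12.INVE8
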